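import Mathlib
import Cfsg.Agent.Lib.Classical.SL2Sylow

/-!
# Normal subgroups of `PSL(2, F)` and Sylow subgroups in the defining characteristic
-/

set_option autoImplicit false

namespace CfsgLib.LocalEvenB.PushCL

open Matrix Subgroup
open CfsgLib.Classical.Two
open scoped MatrixGroups Pointwise LinearAlgebra.Projectivization

variable {F : Type*} [Field F]

theorem mem_center_of_fix {g : SL(2, F)} (h : ∀ x : ℙ F (Fin 2 → F), g • x = x) :
    g ∈ center SL(2, F) := by
  have hfix : ∀ (v : Fin 2 → F) (_ : v ≠ 0),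
      ∃ a : F, a • v = (g : Matrix (Fin 2) (Fin 2) F) *ᵥ v := fun v hv =>
    (Projectivization.mk_eq_mk_iff' F _ _ _ _).1 (h (Projectivization.mk F v hv))
  obtain ⟨a, ha⟩ := hfix ![1, 0] (by simp)
  obtain ⟨d, hd⟩ := hfix ![0, 1] (by simp)
  obtain ⟨e, he⟩ := hfix ![1, 1] (by simp)
  have ha0 := congrFun ha 0
  have ha1 := congrFun ha 1
  have hd0 := congrFun hd 0
  have hd1 := congrFun hd 1
  have he0 := congrFun he 0
  have he1 := congrFun he 1
  simp [Matrix.mulVec, dotProduct, Fin.sum_univ_two] at ha0 ha1 hd0 hd1 he0 he1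
  rw [Subgroup.mem_center_iff]
  intro x
  refine Subtype.ext ?_
  have hg' : (g : Matrix (Fin 2) (Fin 2) F) = a • (1 : Matrix (Fin 2) (Fin 2) F) := by
    ext i j
    fin_cases i <;> fin_cases j <;> simp [← ha0, ← ha1, ← hd0, ← hd1] at he0 he1 ⊢
    rw [← he1, he0]
  show (x : Matrix (Fin 2) (Fin 2) F) * g = g * x
  rw [hg', mul_smul_comm, smul_mul_assoc, mul_one, one_mul]

variable [Fintype F] {p : ℕ} [hp : Fact p.Prime] [CharP F p]

/-- A nontrivial normal subgroup and a Sylow subgroup generate `PSL(2, F)`. -/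
theorem sup_eq_top_of_normal (N : Subgroup (ProjectiveSpecialLinearGroup (Fin 2) F)) [N.Normal]
    (hN : N ≠ ⊥) (T : Sylow p (ProjectiveSpecialLinearGroup (Fin 2) F)) :
    N ⊔ (T : Subgroup (ProjectiveSpecialLinearGroup (Fin 2) F)) = ⊤ := by
  let π := QuotientGroup.mk' (center SL(2, F))
  have hπ : Function.Surjective π := QuotientGroup.mk'_surjective _
  obtain ⟨R₀⟩ : Nonempty (Sylow p SL(2, F)) := inferInstance
  obtain ⟨c, hc⟩ := MulAction.exists_smul_eq (ProjectiveSpecialLinearGroup (Fin 2) F)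
    (R₀.mapSurjective hπ) T
  obtain ⟨k, rfl⟩ := hπ c
  obtain ⟨x₀, hx₀⟩ := exists_point_sylow_SL p R₀
  -- the root group inside the preimage of `T`
  set x := k • x₀ with hx
  have hroot : rootGroup x ≤ (T : Subgroup _).comap π := by
    intro u hu
    rw [hx, rootGroup_smul, mem_pointwise_smul_iff_inv_smul_mem, ← map_inv, MulAut.smul_def,
      MulAut.conj_apply, inv_inv, ← hx₀] at hu
    rw [mem_comap, ← hc]
    exact ⟨π (k⁻¹ * u * k), ⟨_, hu, rfl⟩, by simp [mul_assoc]⟩
  -- an element of the preimage of `N` moving `x`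
  obtain ⟨g, hgN, hgx⟩ : ∃ g, π g ∈ N ∧ g • x ≠ x := by
    by_contra hall
    push Not at hall
    refine hN ((eq_bot_iff_forall N).2 fun y hy => ?_)
    obtain ⟨g, rfl⟩ := hπ y
    refine (QuotientGroup.eq_one_iff g).2 (mem_center_of_fix fun z => ?_)
    obtain ⟨l, rfl⟩ := MulAction.exists_smul_eq SL(2, F) x z
    have h1 := hall (l⁻¹ * g * l) (by
      rw [map_mul, map_mul, map_inv]
      simpa using (inferInstance : N.Normal).conj_mem _ hy (π l)⁻¹)
    rw [mul_smul, mul_smul, inv_smul_eq_iff] at h1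
    exact h1
  have hle : rootGroup x ⊔ rootGroup (g • x) ≤ (N ⊔ (T : Subgroup _)).comap π := by
    refine sup_le (hroot.trans (comap_mono le_sup_right)) ?_
    rw [rootGroup_smul]
    rintro _ ⟨u, hu, rfl⟩
    show π (g * u * g⁻¹) ∈ N ⊔ _
    rw [map_mul, map_mul, map_inv]
    exact mul_mem (mul_mem (mem_sup_left hgN) (mem_sup_right (hroot hu)))
      (inv_mem (mem_sup_left hgN))
  rw [rootGroup_sup_eq_top hgx.symm, top_le_iff] at hle
  refine eq_top_iff.2 fun y _ => ?_
  obtain ⟨z, rfl⟩ := hπ y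
  exact (hle.ge (mem_top z) : z ∈ _)

end CfsgLib.LocalEvenB.PushCL
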