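import Mathlib
import Cfsg.Prelude.Def_PLocal
import Cfsg.Agent.Lib.LocalEvenB.CentrallyLarge
import Cfsg.Agent.Lib.Core.Basic
import Cfsg.Agent.Lib.PGroups.Basic

/-!
# Minimal centrally large subgroups outside a normal subgroup `O`

`swap`: if `W` is central in `O`, elementary abelian, every element outside `O` moves at least a
`q`-th of `W`, and subgroups meet `O` with index at most `q`, then a minimal centrally large `Q`
not inside `O` can be replaced by `W (Q ⊓ O)`.
-/

set_option autoImplicit false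

namespace CfsgLib.LocalEvenB.PushCL

open Subgroup Cfsg
open scoped commutatorElement Pointwise

variable {G H : Type*} [Group G] [Group H]

/-- The Frattini subgroup of a `p`-subgroup, written with commutators and powers. -/
def phi (p : ℕ) (X : Subgroup G) : Subgroup G :=
  ⁅X, X⁆ ⊔ closure ((fun x => x ^ p) '' (X : Set G))

theorem map_phi (p : ℕ) (f : G →* H) (X : Subgroup G) : (phi p X).map f = phi p (X.map f) := by
  rw [phi, phi, Subgroup.map_sup, map_commutator, MonoidHom.map_closure, Set.image_image,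
    coe_map, Set.image_image]
  simp only [map_pow]

theorem map_frattini_eq_phi {p : ℕ} [Finite G] [Fact p.Prime] {X : Subgroup G} (hX : IsPGroup p X) :
    (frattini X).map X.subtype = phi p X := by
  rw [CfsgLib.PGroups.frattini_eq_commutator_sup hX, Subgroup.map_sup, map_subtype_commutator,
    MonoidHom.map_closure, ← Set.range_comp, phi]
  congr 2
  ext y
  simp

theorem phi_sup_central {p : ℕ} {A C : Subgroup G}
    (hA : A ≤ centralizer ((C ⊔ A : Subgroup G) : Set G)) (hAp : ∀ a ∈ A, a ^ p = 1) :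
    phi p (C ⊔ A) = phi p C := by
  have hAC : A ≤ centralizer (C : Set G) :=
    hA.trans (centralizer_le (SetLike.coe_subset_coe.2 le_sup_left))
  rw [phi, phi, commutator_sup_central hA]
  congr 1
  refine le_antisymm ((closure_le _).2 ?_) (closure_mono (Set.image_mono fun x hx => mem_sup_left hx))
  rintro _ ⟨x, hx, rfl⟩
  have hset := coe_mul_of_right_le_normalizer_left C A (hAC.trans (centralizer_le_normalizer _))
  have hx' : x ∈ ((C : Set G) * (A : Set G)) := by rw [← hset]; exact hx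
  obtain ⟨c, hc, a, ha, rfl⟩ := Set.mem_mul.1 hx'
  show (c * a) ^ p ∈ _
  rw [(show Commute c a from mem_centralizer_iff.1 (hAC ha) c hc).mul_pow, hAp a ha, mul_one]
  exact subset_closure ⟨c, hc, rfl⟩

theorem map_inf_centralizer (f : G →* H) (hf : Function.Injective f) (X : Subgroup G) :
    (X ⊓ centralizer (X : Set G)).map f = X.map f ⊓ centralizer ((X.map f : Subgroup H) : Set H) := by
  ext y
  constructor
  · rintro ⟨x, hx, rfl⟩
    refine ⟨⟨x, hx.1, rfl⟩, mem_centralizer_iff.2 ?_⟩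
    rintro _ ⟨z, hz, rfl⟩
    rw [← map_mul, ← map_mul, mem_centralizer_iff.1 hx.2 z hz]
  · rintro ⟨⟨x, hx, rfl⟩, hc⟩
    refine ⟨x, ⟨hx, mem_centralizer_iff.2 fun z hz => hf ?_⟩, rfl⟩
    rw [map_mul, map_mul, mem_centralizer_iff.1 hc (f z) ⟨z, hz, rfl⟩]

theorem map_omegaOneCenter (p : ℕ) (f : G →* H) (hf : Function.Injective f) (X : Subgroup G) :
    (omegaOneCenter p X).map f = omegaOneCenter p (X.map f) := by
  rw [omegaOneCenter, omegaOneCenter, omegaOne, omegaOne, MonoidHom.map_closure,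
    ← map_inf_centralizer f hf]
  congr 1
  ext y
  constructor
  · rintro ⟨x, ⟨hx, hxp⟩, rfl⟩
    exact ⟨⟨x, hx, rfl⟩, by rw [← map_pow, hxp, map_one]⟩
  · rintro ⟨⟨x, hx, rfl⟩, hxp⟩
    exact ⟨x, ⟨hx, hf (by rw [map_pow, hxp, map_one])⟩, rfl⟩

theorem card_invariants_eq (p : ℕ) (f : G →* H) (hf : Function.Injective f) (X : Subgroup G) :
    Nat.card (X.map f) = Nat.card X ∧
      Nat.card ↥(X.map f ⊓ centralizer ((X.map f : Subgroup H) : Set H)) =
        Nat.card ↥(X ⊓ centralizer (X : Set G)) ∧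
      Nat.card (omegaOneCenter p (X.map f)) = Nat.card (omegaOneCenter p X) := by
  refine ⟨card_map_of_injective hf, ?_, ?_⟩
  · rw [← map_inf_centralizer f hf, card_map_of_injective hf]
  · rw [← map_omegaOneCenter p f hf, card_map_of_injective hf]

theorem mem_omegaOneCenter {p : ℕ} {X : Subgroup G} {x : G} :
    x ∈ omegaOneCenter p X ↔ x ∈ X ⊓ centralizer (X : Set G) ∧ x ^ p = 1 := by
  refine ⟨fun h => ?_, fun h => subset_closure ⟨h.1, h.2⟩⟩
  rw [omegaOneCenter, omegaOne] at h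
  induction h using closure_induction with
  | mem y hy => exact hy
  | one => exact ⟨one_mem _, one_pow p⟩
  | mul a b _ _ iha ihb =>
    refine ⟨mul_mem iha.1 ihb.1, ?_⟩
    rw [(show Commute a b from (mem_centralizer_iff.1 iha.1.2 b ihb.1.1).symm).mul_pow, iha.2,
      ihb.2, one_mul]
  | inv a _ iha => exact ⟨inv_mem iha.1, by rw [inv_pow, iha.2, inv_one]⟩

variable [Finite G]

theorem isMinimalCentrallyLarge_iff {Q : Subgroup G} {R : Subgroup G}
    (hQ : IsMinimalCentrallyLarge Q) :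
    IsMinimalCentrallyLarge R ↔ (Nat.card R = Nat.card Q ∧
      Nat.card ↥(R ⊓ centralizer (R : Set G)) = Nat.card ↥(Q ⊓ centralizer (Q : Set G))) := by
  constructor
  · intro hR
    obtain ⟨-, h1, h2⟩ := mcl_data hR hQ
    refine ⟨h1, ?_⟩
    rw [cl_centralizer_eq hR.1, cl_centralizer_eq hQ.1]
    exact h2
  · rintro ⟨h1, h2⟩
    have hcl : IsCentrallyLarge R := by
      show _ = _
      rw [← hQ.1, card_center_eq, card_center_eq, h1, h2]
    obtain ⟨R', hR', hmin⟩ := exists_isMinimalCentrallyLarge_le hcl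
    rwa [← eq_of_le_of_card_ge hR' (by rw [h1, (mcl_data hmin hQ).2.1])]

omit [Finite G] in
theorem card_eq_relIndex_mul {A B : Subgroup G} (h : A ≤ B) :
    A.relIndex B * Nat.card A = Nat.card B := by
  rw [← relIndex_bot_left, ← relIndex_bot_left B, mul_comm, relIndex_mul_relIndex _ _ _ bot_le h]

theorem relIndex_le_relIndex {A B V : Subgroup G} (h : A ≤ B) : B.relIndex V ≤ A.relIndex V :=
  relIndex_le_of_le_left h index_ne_zero_of_finite

/-- The replacement. -/
theorem swap {p q : ℕ} (hq1 : 1 ≤ q) {W O Q : Subgroup G} (hWO : W ≤ O) (hOW : O ≤ centralizer (W : Set G))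
    (hWp : ∀ w ∈ W, w ^ p = 1) (hidx : ∀ X : Subgroup G, (X ⊓ O).relIndex X ≤ q)
    (hmove : ∀ x : G, x ∉ O → q ≤ (W ⊓ centralizer ({x} : Set G)).relIndex W)
    (hQ : IsMinimalCentrallyLarge Q) (hQO : ¬ Q ≤ O) :
    IsMinimalCentrallyLarge (W ⊔ (Q ⊓ O)) ∧ ¬ centralizer (Q : Set G) ≤ O ∧
      Nat.card (omegaOneCenter p Q) ≤ Nat.card (omegaOneCenter p (W ⊔ (Q ⊓ O))) ∧
      (Nat.card (omegaOneCenter p (W ⊔ (Q ⊓ O))) ≤ Nat.card (omegaOneCenter p Q) →
        phi p Q = phi p (W ⊔ (Q ⊓ O))) := by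
  obtain ⟨hQl, hQc⟩ := (isCentrallyLarge_iff Q).1 hQ.1
  set D := centralizer (Q : Set G) with hD
  set C := Q ⊓ O with hC
  set D₀ := D ⊓ O with hD₀
  set R := W ⊔ C with hR
  have hWW : W ≤ centralizer (W : Set G) := hWO.trans hOW
  have hWC : W ≤ centralizer (C : Set G) :=
    (le_centralizer_iff.1 hOW).trans (centralizer_le (SetLike.coe_subset_coe.2 inf_le_right))
  have hCD : D₀ ≤ C := inf_le_inf_right O hQc
  -- sizes
  have hcR := CfsgLib.Core.card_sup_mul_card_inf W C (hWC.trans (centralizer_le_normalizer _))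
  have hcZ := CfsgLib.Core.card_sup_mul_card_inf W D₀
    ((hWC.trans (centralizer_le (SetLike.coe_subset_coe.2 hCD))).trans (centralizer_le_normalizer _))
  have hCQ := card_eq_relIndex_mul (inf_le_left : C ≤ Q)
  have hDD := card_eq_relIndex_mul (inf_le_left : D₀ ≤ D)
  have hW1 := card_eq_relIndex_mul (inf_le_left : W ⊓ C ≤ W)
  have hW2 := card_eq_relIndex_mul (inf_le_left : W ⊓ D₀ ≤ W)
  set a := C.relIndex Q
  set b := D₀.relIndex D
  set v₁ := (W ⊓ C).relIndex W
  set v₂ := (W ⊓ D₀).relIndex W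
  have hRcard : Nat.card R = v₁ * Nat.card C := by
    refine Nat.eq_of_mul_eq_mul_right (Nat.card_pos (α := ↥(W ⊓ C))) ?_
    rw [hcR, ← hW1]; ring
  have hZcard : Nat.card ↥(W ⊔ D₀) = v₂ * Nat.card D₀ := by
    refine Nat.eq_of_mul_eq_mul_right (Nat.card_pos (α := ↥(W ⊓ D₀))) ?_
    rw [hcZ, ← hW2]; ring
  have hZle : W ⊔ D₀ ≤ R ⊓ centralizer (R : Set G) := by
    rw [hR, centralizer_sup]
    refine sup_le (le_inf le_sup_left (le_inf hWW hWC)) (le_inf (hCD.trans le_sup_right)
      (le_inf (inf_le_right.trans hOW) ?_))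
    exact inf_le_left.trans (centralizer_le (SetLike.coe_subset_coe.2 inf_le_left))
  have hf : Nat.card Q * Nat.card ↥(Q ⊓ centralizer (Q : Set G)) = maxCentralProduct G := by
    rw [← card_center_eq]; exact hQ.1
  rw [← hD, inf_eq_right.2 hQc] at hf
  have hμ : Nat.card R * Nat.card ↥(R ⊓ centralizer (R : Set G)) ≤ maxCentralProduct G := by
    rw [← card_center_eq]
    exact le_csSup bddAbove_centralProduct ⟨R, rfl⟩
  have hab : v₁ * v₂ ≤ a * b := by
    refine Nat.le_of_mul_le_mul_right ?_ (Nat.mul_pos (Nat.card_pos (α := C)) (Nat.card_pos (α := D₀)))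
    calc v₁ * v₂ * (Nat.card C * Nat.card D₀) = Nat.card R * Nat.card ↥(W ⊔ D₀) := by
          rw [hRcard, hZcard]; ring
      _ ≤ maxCentralProduct G :=
          (Nat.mul_le_mul_left _ (card_le_of_le hZle)).trans hμ
      _ = a * b * (Nat.card C * Nat.card D₀) := by rw [← hf, ← hCQ, ← hDD]; ring
  have ha : a ≤ q := hidx Q
  have hb : b ≤ q := hidx D
  obtain ⟨x, hxQ, hxO⟩ := SetLike.not_le_iff_exists.1 hQO
  have hv₂ : q ≤ v₂ := by
    refine (hmove x hxO).trans (relIndex_le_relIndex ?_)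
    refine inf_le_inf_left W fun d hd => ?_
    rw [mem_centralizer_singleton_iff]
    exact (mem_centralizer_iff.1 hd.1 x hxQ).symm
  -- the centre of `Q` is not inside `O`
  have hDO : ¬ D ≤ O := by
    intro hDO
    have hb1 : b = 1 := relIndex_eq_one.2 (le_inf le_rfl hDO)
    rw [hb1, mul_one] at hab
    have hv₁pos : 0 < v₁ := Nat.pos_of_ne_zero index_ne_zero_of_finite
    have hv₁ : v₁ = 1 := by
      have : v₁ * v₂ ≤ 1 * v₂ := hab.trans (by rw [one_mul]; exact ha.trans hv₂)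
      have := Nat.le_of_mul_le_mul_right this (lt_of_lt_of_le hq1 hv₂)
      omega
    have hWQ : W ≤ C := (relIndex_eq_one.1 hv₁).trans inf_le_right
    have hRC : R = C := sup_eq_right.2 hWQ
    have haq : v₂ = a := le_antisymm (by rw [hv₁, one_mul] at hab; exact hab) (ha.trans hv₂)
    have hcl : IsCentrallyLarge R := by
      refine le_antisymm (le_csSup bddAbove_centralProduct ⟨R, rfl⟩) ?_
      rw [card_center_eq, ← hf, ← hCQ, ← hDD, hRcard, hv₁, hb1, one_mul, one_mul]
      refine le_trans (le_of_eq ?_) (Nat.mul_le_mul_left _ (card_le_of_le hZle))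
      rw [hZcard, haq]; ring
    have h := hQ.2 R (hRC.le.trans inf_le_left) hcl
    rw [hRC] at h
    exact hQO (h ▸ inf_le_right)
  obtain ⟨d, hdD, hdO⟩ := SetLike.not_le_iff_exists.1 hDO
  have hv₁ : q ≤ v₁ := by
    refine (hmove d hdO).trans (relIndex_le_relIndex ?_)
    refine inf_le_inf_left W fun c hc => ?_
    rw [mem_centralizer_singleton_iff]
    exact mem_centralizer_iff.1 hdD c hc.1
  have hqa : a = q ∧ b = q ∧ v₁ = q ∧ v₂ = q := by
    have h1 : q * q ≤ v₁ * v₂ := Nat.mul_le_mul hv₁ hv₂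
    have h2 : a * b ≤ q * q := Nat.mul_le_mul ha hb
    refine ⟨le_antisymm ha ?_, le_antisymm hb ?_, le_antisymm ?_ hv₁, le_antisymm ?_ hv₂⟩
    · exact Nat.le_of_mul_le_mul_right ((h1.trans hab).trans (Nat.mul_le_mul_left a hb)) hq1
    · exact Nat.le_of_mul_le_mul_left ((h1.trans hab).trans (Nat.mul_le_mul_right b ha)) hq1
    · exact Nat.le_of_mul_le_mul_right ((Nat.mul_le_mul_left v₁ hv₂).trans (hab.trans h2)) hq1
    · exact Nat.le_of_mul_le_mul_left ((Nat.mul_le_mul_right v₂ hv₁).trans (hab.trans h2)) hq1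
  obtain ⟨ea, eb, e1, e2⟩ := hqa
  have hRQ : Nat.card R = Nat.card Q := by rw [hRcard, e1, ← hCQ, ea]
  have hRmin : IsMinimalCentrallyLarge R := by
    refine (isMinimalCentrallyLarge_iff hQ).2 ⟨hRQ, ?_⟩
    rw [← hD, inf_eq_right.2 hQc]
    refine le_antisymm (Nat.le_of_mul_le_mul_left ?_ (Nat.card_pos (α := R))) ?_
    · refine hμ.trans ?_
      rw [← hf, hRQ]
    · refine le_trans (le_of_eq ?_) (card_le_of_le hZle)
      rw [hZcard, e2, ← hDD, eb]
  -- the elements of order `p` in the centres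
  set E := omegaOneCenter p Q with hE
  have hEQ : E ≤ Q ⊓ D := fun y hy => (mem_omegaOneCenter.1 hy).1
  have hEW : W ⊔ (E ⊓ O) ≤ omegaOneCenter p R := by
    refine sup_le (fun w hw => mem_omegaOneCenter.2 ⟨hZle (mem_sup_left hw), hWp w hw⟩)
      fun y hy => mem_omegaOneCenter.2 ⟨hZle (mem_sup_right ⟨(hEQ hy.1).2, hy.2⟩),
        (mem_omegaOneCenter.1 hy.1).2⟩
  have hcE := CfsgLib.Core.card_sup_mul_card_inf W (E ⊓ O)
    ((hWC.trans (centralizer_le (SetLike.coe_subset_coe.2
      (inf_le_inf_right O (hEQ.trans inf_le_left))))).trans (centralizer_le_normalizer _))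
  have hWE : W ⊓ (E ⊓ O) = W ⊓ D₀ := by
    refine le_antisymm (inf_le_inf_left W (le_inf (inf_le_left.trans (hEQ.trans inf_le_right))
      inf_le_right)) (le_inf inf_le_left fun y hy => ⟨mem_omegaOneCenter.2
        ⟨⟨hQc hy.2.1, hy.2.1⟩, hWp y hy.1⟩, hy.2.2⟩)
  have hEO := card_eq_relIndex_mul (inf_le_left : E ⊓ O ≤ E)
  have hbig : Nat.card ↥(W ⊔ (E ⊓ O)) = q * Nat.card ↥(E ⊓ O) := by
    refine Nat.eq_of_mul_eq_mul_right (Nat.card_pos (α := ↥(W ⊓ (E ⊓ O)))) ?_
    rw [hcE, hWE, ← hW2, e2]; ring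
  have hEle : Nat.card E ≤ q * Nat.card ↥(E ⊓ O) := by
    rw [← hEO]; exact Nat.mul_le_mul_right _ (hidx E)
  refine ⟨hRmin, hDO, (hEle.trans hbig.ge).trans (card_le_of_le hEW), fun hle => ?_⟩
  -- `Q` is generated by `C` and `E`
  have hEq : Nat.card E = q * Nat.card ↥(E ⊓ O) :=
    le_antisymm hEle (hbig.ge.trans ((card_le_of_le hEW).trans hle))
  have hEC : E ≤ centralizer ((C ⊔ E : Subgroup G) : Set G) :=
    (hEQ.trans inf_le_right).trans (centralizer_le (SetLike.coe_subset_coe.2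
      (sup_le inf_le_left (hEQ.trans inf_le_left))))
  have hcQ := CfsgLib.Core.card_sup_mul_card_inf E C
    ((hEC.trans (centralizer_le (SetLike.coe_subset_coe.2 le_sup_left))).trans
      (centralizer_le_normalizer _))
  have hEC' : E ⊓ C = E ⊓ O := by
    rw [hC, ← inf_assoc, inf_eq_left.2 (hEQ.trans inf_le_left)]
  rw [hEC', hEq] at hcQ
  have hQeq : C ⊔ E = Q := by
    refine eq_of_le_of_card_ge (sup_le inf_le_left (hEQ.trans inf_le_left)) ?_
    rw [sup_comm]
    refine Nat.le_of_mul_le_mul_right ?_ (Nat.card_pos (α := ↥(E ⊓ O)))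
    rw [hcQ, ← hCQ, ea]
    exact le_of_eq (by ring)
  have hWR : W ≤ centralizer ((C ⊔ W : Subgroup G) : Set G) := by
    rw [centralizer_sup]; exact le_inf hWC hWW
  rw [hR, sup_comm W C, phi_sup_central hWR hWp]
  conv_lhs => rw [← hQeq]
  exact phi_sup_central hEC fun y hy => (mem_omegaOneCenter.1 hy).2

end CfsgLib.LocalEvenB.PushCL
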