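import Mathlib
import Cfsg.Prelude.Def_PLocal
import Cfsg.Agent.Lib.LocalEven.PSL2Image
import Cfsg.Agent.Lib.LocalEven.PpdRelative
import Cfsg.Agent.Lib.LocalEvenB.PushingUpCL.PSLNormal
import Cfsg.Agent.Lib.LocalEvenB.PushingUpCL.Swap
import Cfsg.Agent.Lib.Transfer.PResidual
import Cfsg.Agent.Lib.Core.Cores
import Cfsg.Agent.Lib.LocalEven.PClosed

/-!
# The pushing-up situation: a module inside the centre of `O_p(G)`
-/

set_option autoImplicit false

namespace CfsgLib.LocalEvenB.PushCL

open Subgroup Cfsg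

variable {G : Type*} [Group G] [Finite G] {p : ℕ} [hp : Fact p.Prime] {S : Subgroup G}

/-- `p'`-automorphisms fixing the elements of order `p` of an abelian `p`-group fix everything. -/
theorem commute_of_commute_omega {V : Subgroup G} [V.Normal] (hVp : IsPGroup p V)
    (hVab : V ≤ centralizer (V : Set G)) {a : G} (ha : Nat.Coprime (orderOf a) p)
    (hfix : ∀ w ∈ V, w ^ p = 1 → a * w = w * a) {x : G} (hx : x ∈ V) : a * x = x * a := by
  obtain ⟨k, hk⟩ := hVp ⟨x, hx⟩
  have hk' : x ^ p ^ k = 1 := congrArg Subtype.val hk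
  clear hk
  induction k generalizing x with
  | zero => rw [pow_zero, pow_one] at hk'; rw [hk', mul_one, one_mul]
  | succ k ih =>
    have hxp : a * x ^ p = x ^ p * a :=
      ih (pow_mem hx p) (by rw [← pow_mul, ← pow_succ']; exact hk')
    set y := x⁻¹ * (a * x * a⁻¹) with hy
    have hax : a * x * a⁻¹ ∈ V := (inferInstance : V.Normal).conj_mem x hx a
    have hyV : y ∈ V := mul_mem (inv_mem hx) hax
    have hc : Commute x⁻¹ (a * x * a⁻¹) :=
      (show Commute x (a * x * a⁻¹) from mem_centralizer_iff.1 (hVab hax) x hx).inv_left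
    have hyp : y ^ p = 1 := by
      rw [hy, hc.mul_pow, inv_pow, conj_pow, hxp, mul_inv_cancel_right, inv_mul_cancel]
    have hay := hfix y hyV hyp
    have hpow : ∀ n : ℕ, a ^ n * x * (a ^ n)⁻¹ = x * y ^ n := by
      intro n
      induction n with
      | zero => simp
      | succ n ihn =>
        have hayn : a * y ^ n * a⁻¹ = y ^ n := by
          rw [(show Commute a y from hay).pow_right n |>.eq, mul_inv_cancel_right]
        calc a ^ (n + 1) * x * (a ^ (n + 1))⁻¹ = a * (a ^ n * x * (a ^ n)⁻¹) * a⁻¹ := by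
              rw [pow_succ']; group
          _ = (a * x * a⁻¹) * (a * y ^ n * a⁻¹) := by rw [ihn]; group
          _ = x * y * y ^ n := by rw [hayn, hy, mul_inv_cancel_left]
          _ = x * y ^ (n + 1) := by rw [pow_succ', mul_assoc]
    have h1 := hpow (orderOf a)
    rw [pow_orderOf_eq_one, inv_one, mul_one, one_mul, left_eq_mul] at h1
    have hy1 : y = 1 := orderOf_eq_one_iff.1 (Nat.eq_one_of_dvd_coprimes ha
      (orderOf_dvd_of_pow_eq_one h1) (orderOf_dvd_of_pow_eq_one hyp))
    rw [hy, inv_mul_eq_one] at hy1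
    exact (eq_mul_inv_iff_mul_eq.1 hy1).symm

variable (hP : IsPushingUpSituation p S)
include hP

theorem le_pushingUp : pCore p G ≤ S := by
  obtain ⟨P, rfl⟩ := hP.2.1
  exact CfsgLib.Core.pCore_le_sylow P

omit hp in
/-- Either a subgroup generates `G` with `S`, or it lies in the maximal subgroup over `S`. -/
theorem le_of_sup_ne_top {M : Subgroup G} (hM : IsCoatom M ∧ S ≤ M) {N : Subgroup G}
    (hN : N ⊔ S ≠ ⊤) : N ≤ M := by
  obtain h | ⟨M', hM', hle⟩ := eq_top_or_exists_le_coatom (N ⊔ S)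
  · exact absurd h hN
  obtain ⟨M₀, -, huniq⟩ := hP.2.2.2.1
  rw [huniq M hM, ← huniq M' ⟨hM', le_sup_right.trans hle⟩]
  exact le_sup_left.trans hle

/-- The quotient data. -/
theorem exists_quot :
    ∃ (F : Type) (_ : Field F) (_ : Fintype F) (_ : CharP F p) (n : ℕ)
      (π : G →* Matrix.ProjectiveSpecialLinearGroup (Fin 2) F),
      1 ≤ n ∧ Fintype.card F = p ^ n ∧ Function.Surjective π ∧
        (∀ N : Subgroup G, N.Normal → N ⊔ S ≠ ⊤ → N ≤ π.ker) ∧
        S ⊓ π.ker ≤ pCore p G ∧ pCore p G ≤ π.ker := by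
  obtain ⟨K, hKn, F, hF', hF'', n, hF, ⟨e⟩⟩ := hP.2.2.2.2
  letI := hF'
  letI := hF''
  haveI : CharP F p := charP_of_card_eq_prime_pow hF
  obtain ⟨P, hPS⟩ := hP.2.1
  let π : G →* Matrix.ProjectiveSpecialLinearGroup (Fin 2) F :=
    e.toMonoidHom.comp (QuotientGroup.mk' K)
  have hπ : Function.Surjective π := e.surjective.comp (QuotientGroup.mk'_surjective K)
  have hn : 1 ≤ n := by
    by_contra h
    have := Fintype.one_lt_card (α := F)
    rw [hF, show n = 0 by omega, pow_zero] at this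
    omega
  have hker : ∀ N : Subgroup G, N.Normal → N ⊔ S ≠ ⊤ → N ≤ π.ker := by
    intro N hN hne
    rw [← Subgroup.map_eq_bot_iff]
    by_contra hbot
    obtain ⟨M, hM, -⟩ := hP.2.2.2.1
    have hNM := le_of_sup_ne_top hP hM hne
    haveI := hN.map π hπ
    have htop := sup_eq_top_of_normal (N.map π) hbot (P.mapSurjective hπ)
    change N.map π ⊔ (P : Subgroup G).map π = ⊤ at htop
    rw [← Subgroup.map_sup, hPS] at htop
    -- so the kernel is outside `M`
    have hKM : ¬ π.ker ≤ M := by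
      intro hKM
      refine hM.1.1 (eq_top_iff.2 fun g _ => ?_)
      obtain ⟨x, hx, hxg⟩ := (htop.ge (mem_top (π g)) : π g ∈ (N ⊔ S).map π)
      have : x⁻¹ * g ∈ π.ker := by rw [MonoidHom.mem_ker, map_mul, map_inv, hxg, inv_mul_cancel]
      have h2 := mul_mem (sup_le hNM hM.2 hx) (hKM this)
      rwa [mul_inv_cancel_left] at h2
    have hKS : π.ker ⊔ S = ⊤ := by
      by_contra h
      exact hKM (le_of_sup_ne_top hP hM h)
    have himg : (P : Subgroup G).map π = ⊤ := by
      rw [hPS, eq_top_iff, ← Subgroup.map_top_of_surjective π hπ, ← hKS, Subgroup.map_sup,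
        (Subgroup.map_eq_bot_iff _).2 le_rfl, bot_sup_eq]
    refine CfsgLib.LocalEven.Ppd.psl_not_pgroup (F := F) (p := p) ?_
    rw [← himg]
    exact P.isPGroup'.map π
  refine ⟨F, hF', hF'', inferInstance, n, π, hn, hF, hπ, hker, ?_, ?_⟩
  · -- a Sylow subgroup of the kernel is normal
    obtain ⟨Q, hQ⟩ := CfsgLib.LocalEven.exists_sylow_inf P π.ker
    rw [hPS] at hQ
    rw [← hQ]
    have hfr := Sylow.normalizer_sup_eq_top Q
    have hn' : S ≤ normalizer ((Q : Subgroup π.ker).map π.ker.subtype : Set G) := by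
      intro s hs
      refine Subgroup.mem_normalizer_fintype fun y hy => ?_
      rw [hQ] at hy ⊢
      exact ⟨S.mul_mem (S.mul_mem hs hy.1) (S.inv_mem hs),
        (inferInstance : π.ker.Normal).conj_mem y hy.2 s⟩
    have htop : normalizer ((Q : Subgroup π.ker).map π.ker.subtype : Set G) = ⊤ := by
      by_contra hne
      obtain ⟨M, hM, -⟩ := hP.2.2.2.1
      have h1 : normalizer ((Q : Subgroup π.ker).map π.ker.subtype : Set G) ⊔ S ≠ ⊤ := by
        rwa [sup_eq_left.2 hn']
      have h2 := le_of_sup_ne_top hP hM h1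
      have h3 : π.ker ≤ M := by
        refine le_of_sup_ne_top hP hM fun hKS => CfsgLib.LocalEven.Ppd.psl_not_pgroup (F := F) (p := p) ?_
        have himg : (P : Subgroup G).map π = ⊤ := by
          rw [hPS, eq_top_iff, ← Subgroup.map_top_of_surjective π hπ, ← hKS, Subgroup.map_sup,
            (Subgroup.map_eq_bot_iff _).2 le_rfl, bot_sup_eq]
        rw [← himg]
        exact P.isPGroup'.map π
      exact hM.1.1 (top_le_iff.1 (hfr.symm.le.trans (sup_le h2 h3)))
    haveI := normalizer_eq_top_iff.1 htop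
    exact CfsgLib.Core.le_pCore (Q.isPGroup'.map _)
  · rw [← Subgroup.map_eq_bot_iff]
    exact CfsgLib.LocalEven.Ppd.psl_pgroup_normal_eq_bot
      ((CfsgLib.Core.normal_pCore p G).map π hπ) ((CfsgLib.Core.isPGroup_pCore p G).map π)

theorem inf_le_pCore {N : Subgroup G} [N.Normal] (hN : N ⊔ S ≠ ⊤) : N ⊓ S ≤ pCore p G := by
  obtain ⟨F, _, _, _, n, π, -, -, -, hker, hS, -⟩ := exists_quot hP
  exact le_trans (le_inf inf_le_right (inf_le_left.trans (hker N inferInstance hN))) hS

/-- If `Z(S)` is not central, there is a module on which elements outside `O_p(G)` move much. -/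
theorem exists_module (hZ : ¬ S ⊓ centralizer (S : Set G) ≤ center G) :
    ∃ (q : ℕ) (W : Subgroup G), 1 ≤ q ∧ W.Normal ∧ W ≤ pCore p G ∧
      pCore p G ≤ centralizer (W : Set G) ∧ (∀ w ∈ W, w ^ p = 1) ∧
      (∀ X : Subgroup G, X ≤ S → (X ⊓ pCore p G).relIndex X ≤ q) ∧
      ∀ x ∈ S, x ∉ pCore p G → q ≤ (W ⊓ centralizer ({x} : Set G)).relIndex W := by
  obtain ⟨F, _, _, _, n, π, hn, hF, hπ, hker, hSK, hOK⟩ := exists_quot hP
  obtain ⟨P, hPS⟩ := hP.2.1
  set Z := S ⊓ centralizer (S : Set G) with hZdef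
  set O := pCore p G with hO
  haveI : O.Normal := CfsgLib.Core.normal_pCore p G
  have hZO : Z ≤ centralizer (O : Set G) :=
    inf_le_right.trans (centralizer_le (SetLike.coe_subset_coe.2 (le_pushingUp hP)))
  set V := normalClosure (Z : Set G) with hV
  haveI : V.Normal := normalClosure_normal
  have hVC : V ≤ centralizer (O : Set G) := normalClosure_le_normal hZO
  have hVO : V ≤ O := hVC.trans hP.2.2.1
  have hVab : V ≤ centralizer (V : Set G) := hVC.trans (centralizer_le (SetLike.coe_subset_coe.2 hVO))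
  have hVp : IsPGroup p V := (CfsgLib.Core.isPGroup_pCore p G).to_le hVO
  let W : Subgroup G :=
    { carrier := {w | w ∈ V ∧ w ^ p = 1}
      one_mem' := ⟨one_mem _, one_pow p⟩
      mul_mem' := fun {a b} ha hb => ⟨mul_mem ha.1 hb.1, by
        rw [(show Commute a b from (mem_centralizer_iff.1 (hVab ha.1) b hb.1).symm).mul_pow, ha.2,
          hb.2, one_mul]⟩
      inv_mem' := fun {a} ha => ⟨inv_mem ha.1, by rw [inv_pow, ha.2, inv_one]⟩ }
  haveI hWn : W.Normal := ⟨fun w hw g => ⟨(inferInstance : V.Normal).conj_mem w hw.1 g, by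
    rw [conj_pow, hw.2, mul_one, mul_inv_cancel]⟩⟩
  have hWO : W ≤ O := fun w hw => hVO hw.1
  have hOW : O ≤ centralizer (W : Set G) := fun o ho => mem_centralizer_iff.2 fun w hw =>
    (mem_centralizer_iff.1 (hVC hw.1) o ho).symm
  -- the centraliser of `W` is in the kernel
  have hCW : centralizer (W : Set G) ≤ π.ker := by
    refine hker _ inferInstance fun htop => hZ ?_
    set C' := centralizer (V : Set G)
    have hsub : centralizer (W : Set G) ≤ C' ⊔ S := by
      set C := centralizer (W : Set G)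
      let ψ := QuotientGroup.mk' C'
      have hpg : IsPGroup p (C.map ψ) := by
        rintro ⟨_, c, hc, rfl⟩
        obtain ⟨k, hk⟩ := CfsgLib.Transfer.exists_pow_prime_pow_coprime (p := p) c
        refine ⟨k, Subtype.ext ?_⟩
        show ψ c ^ p ^ k = 1
        rw [← map_pow, QuotientGroup.mk'_apply, QuotientGroup.eq_one_iff, mem_centralizer_iff]
        intro v hv
        exact (commute_of_commute_omega hVp hVab hk (fun w hw hwp =>
          (mem_centralizer_iff.1 (pow_mem hc _) w ⟨hw, hwp⟩).symm) hv).symm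
      haveI : (C.map ψ).Normal := (inferInstance : C.Normal).map ψ (QuotientGroup.mk'_surjective _)
      have h1 : C.map ψ ≤ (P : Subgroup G).map ψ :=
        (CfsgLib.Core.le_pCore hpg).trans
          (CfsgLib.Core.pCore_le_sylow (P.mapSurjective (QuotientGroup.mk'_surjective C')))
      intro c hc
      obtain ⟨s, hs, hsc⟩ := h1 ⟨c, hc, rfl⟩
      rw [QuotientGroup.mk'_apply, QuotientGroup.mk'_apply, QuotientGroup.eq] at hsc
      have := mul_mem (mem_sup_right (hPS ▸ hs : s ∈ S) : s ∈ C' ⊔ S) (mem_sup_left hsc)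
      rwa [mul_inv_cancel_left] at this
    have hall : C' ⊔ S ≤ centralizer (Z : Set G) :=
      sup_le (centralizer_le subset_normalClosure) (le_centralizer_iff.1 inf_le_right)
    intro z hz
    rw [mem_center_iff]
    intro g
    have hg : g ∈ centralizer (Z : Set G) :=
      hall ((sup_le hsub le_sup_right : centralizer (W : Set G) ⊔ S ≤ C' ⊔ S) (htop ▸ mem_top g))
    exact (mem_centralizer_iff.1 hg z hz).symm
  refine ⟨p ^ n, W, Nat.one_le_pow _ _ hp.out.pos, hWn, hWO, hOW, fun w hw => hw.2, fun X hX => ?_,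
    fun x hx hxO => ?_⟩
  · have h1 : (π.ker ⊓ X).relIndex X ≤ p ^ n := by
      rw [inf_relIndex_right, ← MonoidHom.comap_bot, relIndex_comap, relIndex_bot_left, ← hF]
      refine CfsgLib.LocalEven.Ppd.psl_card_le (p := p) ?_
      exact ((hPS ▸ P.isPGroup').to_le hX).map π
    refine le_trans (relIndex_le_of_le_left ?_ index_ne_zero_of_finite) h1
    exact le_inf inf_le_right ((le_inf (inf_le_right.trans hX) inf_le_left).trans hSK)
  · have hπx : π x ≠ 1 := fun h => hxO (hSK ⟨hx, h⟩)
    obtain ⟨k, hk⟩ := (hPS ▸ P.isPGroup' : IsPGroup p S) ⟨x, hx⟩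
    have hk' : x ^ p ^ k = 1 := congrArg Subtype.val hk
    have hWp : IsPGroup p W := hVp.to_le fun w hw => hw.1
    rcases le_or_gt n 1 with hn1 | hn1
    · rw [le_antisymm hn1 hn, pow_one]
      exact CfsgLib.LocalEven.Ppd.prime_le_fixIndex hWp fun hc => hπx (hCW hc)
    · exact (CfsgLib.LocalEven.Ppd.psl2_relative hn1 hF hWp π hπ hCW).1 x k hk' hπx

end CfsgLib.LocalEvenB.PushCL
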