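import Mathlib
import Cfsg.Agent.Lib.LocalEvenB.PushingUpCL.Setup

/-!
# Centrally large subgroups in the pushing-up situation
-/

set_option autoImplicit false

namespace CfsgLib.LocalEvenB.PushCL

open Subgroup Cfsg
open scoped commutatorElement

variable {G : Type*} [Group G] [Finite G] {p : ℕ} [hp : Fact p.Prime] {S : Subgroup G}

omit hp in
/-- Automorphisms fix the common commutator subgroup of the minimal centrally large subgroups. -/
theorem commutator_characteristic {P : Type*} [Group P] [Finite P] {Q : Subgroup P}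
    (hQ : IsMinimalCentrallyLarge Q) : (⁅Q, Q⁆).Characteristic := by
  rw [characteristic_iff_map_eq]
  intro φ
  have hQ' : IsMinimalCentrallyLarge (Q.map φ.toMonoidHom) := by
    obtain ⟨h1, h2, -⟩ := card_invariants_eq 2 φ.toMonoidHom φ.injective Q
    exact (isMinimalCentrallyLarge_iff hQ).2 ⟨h1, h2⟩
  rw [map_commutator, (mcl_data hQ' hQ).1]

variable (hP : IsPushingUpSituation p S)
include hP

theorem swap_in (hZ : ¬ S ⊓ centralizer (S : Set G) ≤ center G) {Q : Subgroup S}
    (hQ : IsMinimalCentrallyLarge Q) (hQO : ¬ Q ≤ (pCore p G).subgroupOf S) :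
    ∃ R : Subgroup S, IsMinimalCentrallyLarge R ∧ R ≤ (pCore p G).subgroupOf S ∧
      ¬ centralizer (Q : Set S) ≤ (pCore p G).subgroupOf S ∧
      Nat.card (omegaOneCenter p Q) ≤ Nat.card (omegaOneCenter p R) ∧
      (Nat.card (omegaOneCenter p R) ≤ Nat.card (omegaOneCenter p Q) → phi p Q = phi p R) := by
  obtain ⟨q, W, hq, -, hWO, hOW, hWp, hidx, hmove⟩ := exists_module hP hZ
  have hWS : W ≤ S := hWO.trans (le_pushingUp hP)
  have hOW' : (pCore p G).subgroupOf S ≤ centralizer ((W.subgroupOf S : Subgroup S) : Set S) := by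
    intro o ho
    rw [mem_centralizer_iff]
    intro w hw
    exact Subtype.ext (mem_centralizer_iff.1 (hOW ho) w hw)
  have hWO' : W.subgroupOf S ≤ (pCore p G).subgroupOf S := comap_mono hWO
  have hidx' : ∀ X : Subgroup S, (X ⊓ (pCore p G).subgroupOf S).relIndex X ≤ q := by
    intro X
    rw [inf_relIndex_left, subgroupOf, relIndex_comap, ← inf_relIndex_left (X.map S.subtype)]
    exact hidx _ (map_subtype_le X)
  have hmove' : ∀ x : S, x ∉ (pCore p G).subgroupOf S →
      q ≤ (W.subgroupOf S ⊓ centralizer ({x} : Set S)).relIndex (W.subgroupOf S) := by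
    intro x hx
    have h : W.subgroupOf S ⊓ centralizer ({x} : Set S) =
        (W ⊓ centralizer ({(x : G)} : Set G)).subgroupOf S := by
      ext w
      simp only [mem_inf, mem_subgroupOf, mem_centralizer_singleton_iff]
      exact and_congr_right fun _ => ⟨fun h => congrArg Subtype.val h, fun h => Subtype.ext h⟩
    rw [h, relIndex_subgroupOf hWS]
    exact hmove x x.2 hx
  obtain ⟨h1, h2, h3, h4⟩ := swap hq hWO' hOW'
    (fun w hw => Subtype.ext (by rw [SubgroupClass.coe_pow, hWp w hw, OneMemClass.coe_one]))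
    hidx' hmove' hQ hQO
  exact ⟨_, h1, sup_le hWO' inf_le_right, h2, h3, h4⟩

/-- Conjugation of a member inside `O_p(G)`. -/
theorem exists_conj {R : Subgroup S} (hR : IsMinimalCentrallyLarge R)
    (hRO : R ≤ (pCore p G).subgroupOf S) (g : G) :
    ∃ R' : Subgroup S, IsMinimalCentrallyLarge R' ∧
      Nat.card (omegaOneCenter p R') = Nat.card (omegaOneCenter p R) ∧
      R'.map S.subtype = (R.map S.subtype).map (MulAut.conj g).toMonoidHom := by
  have hle : (R.map S.subtype).map (MulAut.conj g).toMonoidHom ≤ S := by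
    rintro _ ⟨_, ⟨r, hr, rfl⟩, rfl⟩
    exact le_pushingUp hP ((CfsgLib.Core.normal_pCore p G).conj_mem _ (hRO hr) g)
  refine ⟨((R.map S.subtype).map (MulAut.conj g).toMonoidHom).subgroupOf S, ?_, ?_,
    by rw [subgroupOf_map_subtype, inf_eq_left.2 hle]⟩
  all_goals
    obtain ⟨a1, a2, a3⟩ := card_invariants_eq p S.subtype S.subtype_injective
      (((R.map S.subtype).map (MulAut.conj g).toMonoidHom).subgroupOf S)
    obtain ⟨b1, b2, b3⟩ := card_invariants_eq p (MulAut.conj g).toMonoidHom (MulAut.conj g).injective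
      (R.map S.subtype)
    obtain ⟨c1, c2, c3⟩ := card_invariants_eq p S.subtype S.subtype_injective R
    rw [subgroupOf_map_subtype, inf_eq_left.2 hle] at a1 a2 a3
  · exact (isMinimalCentrallyLarge_iff hR).2 ⟨by rw [← a1, b1, c1], by rw [← a2, b2, c2]⟩
  · rw [← a3, b3, c3]

theorem center_normal_of_le (hZ : S ⊓ centralizer (S : Set G) ≤ center G) {X : Subgroup G}
    (hX : X ≤ S ⊓ centralizer (S : Set G)) : X.Normal :=
  ⟨fun n hn g => by
    rw [mem_center_iff.1 (hZ (hX hn)) g, mul_inv_cancel_right]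
    exact hn⟩

/-- The join of the Frattini subgroups over the family of largest centre is normal. -/
theorem center_or_phiJoin_normal :
    (S ⊓ centralizer (S : Set G)).Normal ∨
      ((frattiniOfMinimalCLJoin p S).map S.subtype).Normal := by
  by_cases hZ : S ⊓ centralizer (S : Set G) ≤ center G
  · exact Or.inl (center_normal_of_le hP hZ le_rfl)
  right
  have hS : IsPGroup p S := by
    obtain ⟨P, hPS⟩ := hP.2.1
    exact hPS ▸ P.isPGroup'
  set m := maxOmegaCenterOfMinimalCL p S with hm
  have hbdd : ∀ R : Subgroup S, IsMinimalCentrallyLarge R → Nat.card (omegaOneCenter p R) ≤ m := by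
    intro R hR
    refine le_csSup ?_ ⟨R, hR, rfl⟩
    exact ((Set.finite_range fun R : Subgroup S => Nat.card (omegaOneCenter p R)).bddAbove).mono
      (by rintro k ⟨R, -, rfl⟩; exact ⟨R, rfl⟩)
  have hΦ : ∀ R : Subgroup S, (frattini R).map R.subtype = phi p R := fun R =>
    map_frattini_eq_phi (hS.to_subgroup R)
  have hfam : ∀ Q : Subgroup S, IsMinimalCentrallyLarge Q → Nat.card (omegaOneCenter p Q) = m →
      ∃ R : Subgroup S, IsMinimalCentrallyLarge R ∧ Nat.card (omegaOneCenter p R) = m ∧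
        R ≤ (pCore p G).subgroupOf S ∧ phi p Q = phi p R := by
    intro Q hQ hQm
    by_cases hQO : Q ≤ (pCore p G).subgroupOf S
    · exact ⟨Q, hQ, hQm, hQO, rfl⟩
    obtain ⟨R, hR, hRO, -, h1, h2⟩ := swap_in hP hZ hQ hQO
    have hRm := hbdd R hR
    exact ⟨R, hR, le_antisymm hRm (hQm ▸ h1), hRO, h2 (hQm ▸ hRm)⟩
  set J := (frattiniOfMinimalCLJoin p S).map S.subtype with hJ
  have hmem : ∀ R : Subgroup S, IsMinimalCentrallyLarge R → Nat.card (omegaOneCenter p R) = m →
      (phi p R).map S.subtype ≤ J := by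
    intro R hR hRm
    refine map_mono ?_
    rw [← hΦ]
    exact le_iSup_of_le ⟨R, hR, hRm⟩ le_rfl
  have hconj : ∀ g : G, J.map (MulAut.conj g).toMonoidHom ≤ J := by
    intro g
    rw [hJ, frattiniOfMinimalCLJoin, Subgroup.map_iSup, Subgroup.map_iSup]
    refine iSup_le fun ⟨Q, hQ, hQm⟩ => ?_
    obtain ⟨R, hR, hRm, hRO, he⟩ := hfam Q hQ hQm
    obtain ⟨R', hR', hcard, hmap⟩ := exists_conj hP hR hRO g
    have h := hmem R' hR' (hcard.trans hRm)
    rw [map_phi, hmap, ← map_phi, ← map_phi, ← he, ← hΦ, hJ, frattiniOfMinimalCLJoin,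
      Subgroup.map_iSup] at h
    exact h
  exact ⟨fun n hn g => hconj g ⟨n, hn, rfl⟩⟩

/-- The common commutator subgroup. -/
theorem commutator_inf_or_join_normal {Q : Subgroup S} (hQ : IsMinimalCentrallyLarge Q) :
    ((S ⊓ centralizer (S : Set G)) ⊓ (⁅Q, Q⁆).map S.subtype).Normal ∨
      ((minimalCentrallyLargeJoin S).map S.subtype).Normal := by
  by_cases hZ : S ⊓ centralizer (S : Set G) ≤ center G
  · exact Or.inl (center_normal_of_le hP hZ inf_le_left)
  set O' := (pCore p G).subgroupOf S with hO'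
  by_cases hall : ∀ R : Subgroup S, IsMinimalCentrallyLarge R → R ≤ O'
  · right
    have hconj : ∀ g : G, ((minimalCentrallyLargeJoin S).map S.subtype).map (MulAut.conj g).toMonoidHom ≤
        (minimalCentrallyLargeJoin S).map S.subtype := by
      intro g
      rw [minimalCentrallyLargeJoin, sSup_eq_iSup, Subgroup.map_iSup, Subgroup.map_iSup]
      simp only [Subgroup.map_iSup]
      refine iSup₂_le fun R hR => ?_
      obtain ⟨R', hR', -, hmap⟩ := exists_conj hP hR (hall R hR) g
      rw [← hmap]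
      exact le_iSup₂_of_le R' hR' le_rfl
    exact ⟨fun n hn g => hconj g ⟨n, hn, rfl⟩⟩
  left
  push Not at hall
  obtain ⟨Q₁, hQ₁, hQ₁O⟩ := hall
  obtain ⟨R, hR, hRO, hZQ, -⟩ := swap_in hP hZ hQ₁ hQ₁O
  set D := (⁅Q, Q⁆).map S.subtype with hD
  haveI hDn : D.Normal := ⟨fun n hn g => by
    obtain ⟨R', hR', -, hmap⟩ := exists_conj hP hR hRO g
    have h1 : D.map (MulAut.conj g).toMonoidHom = D := by
      rw [hD, (mcl_data hQ hR).1, map_commutator, map_commutator, ← hmap, ← map_commutator,
        (mcl_data hR' hR).1, map_commutator]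
    exact h1 ▸ ⟨n, hn, rfl⟩⟩
  obtain ⟨x, hx, hxO⟩ := SetLike.not_le_iff_exists.1 hZQ
  have hxC : (x : G) ∈ centralizer (D : Set G) := by
    rw [mem_centralizer_iff]
    intro y hy
    rw [hD, (mcl_data hQ hQ₁).1] at hy
    obtain ⟨d, hd, rfl⟩ := hy
    exact congrArg Subtype.val
      (mem_centralizer_iff.1 hx d ((commutator_le.2 fun a ha b hb => by
        rw [commutatorElement_def]
        exact mul_mem (mul_mem (mul_mem ha hb) (inv_mem ha)) (inv_mem hb)) hd))
  have htop : centralizer (D : Set G) ⊔ S = ⊤ := by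
    by_contra h
    exact hxO (inf_le_pCore hP h ⟨hxC, x.2⟩)
  refine ⟨fun n hn g => ?_⟩
  have hg : g ∈ centralizer ({n} : Set G) := by
    refine (sup_le (centralizer_le (Set.singleton_subset_iff.2 hn.2)) (fun s hs => ?_) :
      centralizer (D : Set G) ⊔ S ≤ centralizer ({n} : Set G)) (htop ▸ mem_top g)
    rw [mem_centralizer_singleton_iff]
    exact mem_centralizer_iff.1 hn.1.2 s hs
  rw [mem_centralizer_singleton_iff.1 hg, mul_inv_cancel_right]
  exact hn

end CfsgLib.LocalEvenB.PushCL
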